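import Mathlib.Algebra.Homology.DerivedCategory.Ext.ExactSequences
import Mathlib.Algebra.Homology.DerivedCategory.Ext.EnoughInjectives
import Mathlib.CategoryTheory.Abelian.GrothendieckCategory.EnoughInjectives
import Mathlib.CategoryTheory.Abelian.FunctorCategory
import Mathlib.CategoryTheory.Limits.Types.Filtered
import Mathlib.Algebra.Category.Grp.FilteredColimits
import Mathlib.Algebra.Category.Grp.Colimits

/-!
# Ext groups and filtered colimits in the second variable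
-/

set_option autoImplicit false

universe w v u

open CategoryTheory CategoryTheory.Limits CategoryTheory.Abelian Opposite
open scoped ZeroObject

namespace Groth.Agent.CohColim

variable {A : Type u} [Category.{v} A] [Abelian A]

lemma sub_comp [HasExt.{w} A] {X Y Z : A} {p : ℕ} (a b : Ext X Y p) (f : Y ⟶ Z) :
    (a - b).comp (Ext.mk₀ f) (add_zero p) = a.comp (Ext.mk₀ f) (add_zero p) - b.comp (Ext.mk₀ f) (add_zero p) :=
  map_sub ((Ext.mk₀ f).postcomp X (add_zero p)) a b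

section Elem

set_option linter.unusedSectionVars false

variable [HasExt.{w} A] {Λ : Type w} [SmallCategory Λ] [HasColimitsOfShape Λ A]

/-- Every class in the colimit comes from a stage. -/
def ExtSurj (X : A) (p : ℕ) (D : Λ ⥤ A) : Prop :=
  ∀ x : Ext X (colimit D) p, ∃ (i : Λ) (y : Ext X (D.obj i) p), y.comp (Ext.mk₀ (colimit.ι D i)) (add_zero p) = x

/-- A class killed in the colimit is killed at a stage. -/
def ExtInj (X : A) (p : ℕ) (D : Λ ⥤ A) : Prop :=
  ∀ (i : Λ) (y : Ext X (D.obj i) p), y.comp (Ext.mk₀ (colimit.ι D i)) (add_zero p) = 0 →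
    ∃ (j : Λ) (f : i ⟶ j), y.comp (Ext.mk₀ (D.map f)) (add_zero p) = 0

lemma comp_map_ι (X : A) (p : ℕ) (D : Λ ⥤ A) {i j : Λ} (f : i ⟶ j) (y : Ext X (D.obj i) p) :
    (y.comp (Ext.mk₀ (D.map f)) (add_zero p)).comp (Ext.mk₀ (colimit.ι D j)) (add_zero p) =
      y.comp (Ext.mk₀ (colimit.ι D i)) (add_zero p) := by
  rw [Ext.comp_assoc_of_second_deg_zero, Ext.mk₀_comp_mk₀, colimit.w]

lemma comp_map_map (X : A) (p : ℕ) (D : Λ ⥤ A) {i j k : Λ} (f : i ⟶ j) (g : j ⟶ k) (y : Ext X (D.obj i) p) :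
    (y.comp (Ext.mk₀ (D.map f)) (add_zero p)).comp (Ext.mk₀ (D.map g)) (add_zero p) =
      y.comp (Ext.mk₀ (D.map (f ≫ g))) (add_zero p) := by
  rw [Ext.comp_assoc_of_second_deg_zero, Ext.mk₀_comp_mk₀, D.map_comp]

theorem preservesColimit_ext [IsFiltered Λ] {X : A} {p : ℕ} {D : Λ ⥤ A} (hs : ExtSurj X p D) (hi : ExtInj X p D) :
    PreservesColimit D ((extFunctor.{w} p).obj (op X)) := by
  refine preservesColimit_of_preserves_colimit_cocone (colimit.isColimit D) ?_
  have : PreservesColimitsOfShape Λ (forget AddCommGrpCat.{w}) :=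
    PreservesFilteredColimitsOfSize.preserves_filtered_colimits Λ
  have : ReflectsColimitsOfShape Λ (forget AddCommGrpCat.{w}) := reflectsColimitsOfShape_of_reflectsIsomorphisms
  refine isColimitOfReflects (forget AddCommGrpCat.{w}) (Types.FilteredColimit.isColimitOf' _ _ (fun x => ?_) fun i x y h => ?_)
  · obtain ⟨i, z, hz⟩ := hs x
    exact ⟨i, z, hz.symm⟩
  · have h' : Ext.comp (x : Ext X (D.obj i) p) (Ext.mk₀ (colimit.ι D i)) (add_zero p) =
        Ext.comp (y : Ext X (D.obj i) p) (Ext.mk₀ (colimit.ι D i)) (add_zero p) := h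
    obtain ⟨j, f, hf⟩ := hi i ((x : Ext X (D.obj i) p) - y) ((sub_comp (x : Ext X (D.obj i) p) y (colimit.ι D i)).trans (sub_eq_zero.2 h'))
    exact ⟨j, f, sub_eq_zero.1 ((sub_comp _ _ _).symm.trans hf)⟩

end Elem

section Grothendieck

variable [IsGrothendieckAbelian.{w} A]

open MorphismProperty in
/-- A functorial embedding into injective objects. -/
lemma exists_injective_functor :
    ∃ (F : A ⥤ A) (η : 𝟭 A ⟶ F), ∀ X, Injective (F.obj X) ∧ Mono (η.app X) := by
  let data := functorialFactorizationData (monomorphisms A) (monomorphisms A).rlp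
  let T : A ⥤ Arrow A :=
    { obj := fun X => Arrow.mk (0 : X ⟶ (0 : A))
      map := fun f => Arrow.homMk f (𝟙 _) }
  refine ⟨T ⋙ data.Z, Functor.whiskerLeft T data.i, fun X => ⟨?_, data.hi _⟩⟩
  have := data.hp (T.obj X)
  rw [(isZero_zero A).eq_of_tgt (data.p.app (T.obj X)) 0] at this
  rw [injective_iff_rlp_monomorphisms_zero]
  exact this

variable [HasExt.{w} A] {Λ : Type w} [SmallCategory Λ] [IsFiltered Λ] {X : A}

set_option linter.unusedSectionVars false

theorem extSurj_and_extInj (h₀ : ∀ D : Λ ⥤ A, ExtSurj X 0 D ∧ ExtInj X 0 D)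
    (hac : ∀ D : Λ ⥤ A, (∀ i, Injective (D.obj i)) → ∀ p, Subsingleton (Ext X (colimit D) (p + 1))) (p : ℕ) :
    ∀ D : Λ ⥤ A, ExtSurj X p D ∧ ExtInj X p D := by
  induction p with
  | zero => exact h₀
  | succ p ih =>
    intro D
    obtain ⟨F, η, hη⟩ := exists_injective_functor (A := A)
    let a : D ⟶ D ⋙ F := Functor.whiskerLeft D η
    have hinj : ∀ i, Injective ((D ⋙ F).obj i) := fun i => (hη (D.obj i)).1
    have : ∀ i, Mono (a.app i) := fun i => (hη (D.obj i)).2
    have : Mono a := NatTrans.mono_of_mono_app a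
    let S : ShortComplex (Λ ⥤ A) := ShortComplex.mk a (cokernel.π a) (cokernel.condition a)
    have hS : S.ShortExact := { exact := ShortComplex.exact_cokernel a, mono_f := inferInstanceAs (Mono a), epi_g := inferInstanceAs (Epi (cokernel.π a)) }
    have hE : ∀ i, (S.map ((evaluation Λ A).obj i)).ShortExact := fun i => hS.map_of_exact _
    have hC : (S.map (colim : (Λ ⥤ A) ⥤ A)).ShortExact := hS.map_of_exact _
    let τ : ∀ {i j : Λ} (f : i ⟶ j), S.map ((evaluation Λ A).obj i) ⟶ S.map ((evaluation Λ A).obj j) := fun f =>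
      S.mapNatTrans ((evaluation Λ A).map f)
    let φ : ∀ i, S.map ((evaluation Λ A).obj i) ⟶ S.map (colim : (Λ ⥤ A) ⥤ A) := fun i =>
      { τ₁ := colimit.ι S.X₁ i
        τ₂ := colimit.ι S.X₂ i
        τ₃ := colimit.ι S.X₃ i
        comm₁₂ := colimit.ι_map S.f i
        comm₂₃ := colimit.ι_map S.g i }
    have natτ : ∀ {i j : Λ} (f : i ⟶ j) (y : Ext X (S.X₃.obj i) p),
        (y.comp (hE i).extClass rfl).comp (Ext.mk₀ (S.X₁.map f)) (add_zero (p + 1)) =
          (y.comp (Ext.mk₀ (S.X₃.map f)) (add_zero p)).comp (hE j).extClass rfl := fun {i j} f y => by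
      refine (Ext.comp_assoc_of_third_deg_zero y (hE i).extClass (Ext.mk₀ (S.X₁.map f)) rfl).trans ?_
      exact ((congrArg (fun z => y.comp z rfl) (ShortComplex.ShortExact.extClass_naturality (hE i) (hE j) (τ f))).trans
        (Ext.comp_assoc_of_second_deg_zero y (Ext.mk₀ (S.X₃.map f)) (hE j).extClass rfl).symm)
    have natφ : ∀ (i : Λ) (y : Ext X (S.X₃.obj i) p),
        (y.comp (hE i).extClass rfl).comp (Ext.mk₀ (colimit.ι S.X₁ i)) (add_zero (p + 1)) =
          (y.comp (Ext.mk₀ (colimit.ι S.X₃ i)) (add_zero p)).comp hC.extClass rfl := fun i y => by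
      refine (Ext.comp_assoc_of_third_deg_zero y (hE i).extClass (Ext.mk₀ (colimit.ι S.X₁ i)) rfl).trans ?_
      exact ((congrArg (fun z => y.comp z rfl) (ShortComplex.ShortExact.extClass_naturality (hE i) hC (φ i))).trans
        (Ext.comp_assoc_of_second_deg_zero y (Ext.mk₀ (colimit.ι S.X₃ i)) hC.extClass rfl).symm)
    refine ⟨fun x => ?_, fun i z hz => ?_⟩
    · obtain ⟨y, rfl⟩ := Ext.covariant_sequence_exact₁ X hC x
        (@Subsingleton.elim _ (hac (D ⋙ F) hinj p) _ _) rfl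
      obtain ⟨i, yi, rfl⟩ := (ih S.X₃).1 y
      exact ⟨i, yi.comp (hE i).extClass rfl, natφ i yi⟩
    · have : Subsingleton (Ext X ((D ⋙ F).obj i) (p + 1)) := @Ext.subsingleton_of_injective _ _ _ _ X _ (hinj i) p
      obtain ⟨y, rfl⟩ := Ext.covariant_sequence_exact₁ X (hE i) z (@Subsingleton.elim _ this _ _) rfl
      obtain ⟨w, hw⟩ := Ext.covariant_sequence_exact₃ X hC (y.comp (Ext.mk₀ (colimit.ι S.X₃ i)) (add_zero p)) rfl
        ((natφ i y).symm.trans hz)
      obtain ⟨j, wj, rfl⟩ := (ih (D ⋙ F)).1 w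
      let k := IsFiltered.max i j
      let gk : S.X₂.obj k ⟶ S.X₃.obj k := S.g.app k
      let y' := y.comp (Ext.mk₀ (S.X₃.map (IsFiltered.leftToMax i j))) (add_zero p)
      let w' := (wj.comp (Ext.mk₀ ((D ⋙ F).map (IsFiltered.rightToMax i j))) (add_zero p) : Ext X (S.X₂.obj k) p)
      have hd : (y' - w'.comp (Ext.mk₀ gk) (add_zero p)).comp (Ext.mk₀ (colimit.ι S.X₃ k)) (add_zero p) = 0 := by
        have key : colimit.ι S.X₂ j ≫ colim.map S.g =
            S.X₂.map (IsFiltered.rightToMax i j) ≫ gk ≫ colimit.ι S.X₃ k := by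
          rw [colimit.ι_map, ← colimit.w S.X₃ (IsFiltered.rightToMax i j)]
          exact (S.g.naturality_assoc _ _).symm
        rw [sub_comp, sub_eq_zero]
        refine (comp_map_ι X p S.X₃ _ y).trans (hw.symm.trans ?_)
        have e1 : ∀ {U V W : A} (z : Ext X U p) (f : U ⟶ V) (g : V ⟶ W),
            (z.comp (Ext.mk₀ f) (add_zero p)).comp (Ext.mk₀ g) (add_zero p) = z.comp (Ext.mk₀ (f ≫ g)) (add_zero p) :=
          fun z f g => by rw [Ext.comp_assoc_of_second_deg_zero, Ext.mk₀_comp_mk₀]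
        exact (e1 wj _ _).trans ((congrArg (fun m => wj.comp (Ext.mk₀ m) (add_zero p)) key).trans
          ((e1 w' gk _).trans (e1 wj _ _)).symm)
      obtain ⟨l, f, hl⟩ := (ih S.X₃).2 k _ hd
      refine ⟨l, IsFiltered.leftToMax i j ≫ f, ?_⟩
      rw [sub_comp, sub_eq_zero] at hl
      have e1 : ∀ {U V W : A} (z : Ext X U p) (f : U ⟶ V) (g : V ⟶ W),
          (z.comp (Ext.mk₀ f) (add_zero p)).comp (Ext.mk₀ g) (add_zero p) = z.comp (Ext.mk₀ (f ≫ g)) (add_zero p) :=
        fun z f g => by rw [Ext.comp_assoc_of_second_deg_zero, Ext.mk₀_comp_mk₀]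
      have hg : gk ≫ S.X₃.map f = S.X₂.map f ≫ S.g.app l := (S.g.naturality f).symm
      have hy : y.comp (Ext.mk₀ (S.X₃.map (IsFiltered.leftToMax i j ≫ f))) (add_zero p) =
          (w'.comp (Ext.mk₀ (S.X₂.map f)) (add_zero p)).comp (Ext.mk₀ (S.g.app l)) (add_zero p) :=
        (comp_map_map X p S.X₃ (IsFiltered.leftToMax i j) f y).symm.trans
          (hl.trans ((e1 w' gk _).trans ((congrArg (fun m => w'.comp (Ext.mk₀ m) (add_zero p)) hg).trans (e1 w' _ _).symm)))
      refine (natτ _ y).trans ?_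
      refine (congrArg (fun z => Ext.comp z (hE l).extClass rfl) hy).trans ?_
      refine (Ext.comp_assoc_of_second_deg_zero _ _ _ _).trans ?_
      exact (congrArg (fun z => (w'.comp (Ext.mk₀ (S.X₂.map f)) (add_zero p)).comp z rfl) (hE l).comp_extClass).trans
        (Ext.comp_zero _ _ _ _ _)

theorem preservesColimitsOfShape_ext (h₀ : ∀ D : Λ ⥤ A, ExtSurj X 0 D ∧ ExtInj X 0 D)
    (hac : ∀ D : Λ ⥤ A, (∀ i, Injective (D.obj i)) → ∀ p, Subsingleton (Ext X (colimit D) (p + 1))) (p : ℕ) :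
    PreservesColimitsOfShape Λ ((extFunctor.{w} p).obj (op X)) :=
  ⟨fun {D} => preservesColimit_ext (extSurj_and_extInj h₀ hac p D).1 (extSurj_and_extInj h₀ hac p D).2⟩

omit [IsGrothendieckAbelian.{w} A] in
lemma extSurj_and_extInj_zero [HasColimitsOfShape Λ A] (D : Λ ⥤ A)
    (hs : ∀ a : X ⟶ colimit D, ∃ (i : Λ) (b : X ⟶ D.obj i), b ≫ colimit.ι D i = a)
    (hi : ∀ (i : Λ) (b : X ⟶ D.obj i), b ≫ colimit.ι D i = 0 → ∃ (j : Λ) (f : i ⟶ j), b ≫ D.map f = 0) :
    ExtSurj X 0 D ∧ ExtInj X 0 D := by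
  refine ⟨fun x => ?_, fun i y hy => ?_⟩
  · obtain ⟨a, rfl⟩ := (Ext.mk₀_bijective _ _).2 x
    obtain ⟨i, b, rfl⟩ := hs a
    exact ⟨i, Ext.mk₀ b, Ext.mk₀_comp_mk₀ _ _⟩
  · obtain ⟨b, rfl⟩ := (Ext.mk₀_bijective _ _).2 y
    rw [Ext.mk₀_comp_mk₀, ← Ext.mk₀_zero] at hy
    obtain ⟨j, f, hf⟩ := hi i b ((Ext.mk₀_bijective _ _).1 hy)
    exact ⟨j, f, by rw [Ext.mk₀_comp_mk₀, hf, Ext.mk₀_zero]⟩

end Grothendieck

end Groth.Agent.CohColim
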