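import Groth.Agent.CohColim.Inst
import Mathlib.Data.Finite.Sum

/-!
# The class generated by covering and embedding into products
-/

set_option autoImplicit false

universe u

open CategoryTheory CategoryTheory.Limits CategoryTheory.Abelian Opposite

namespace Groth.Agent.CohColim

open ToposFinLib

variable {C : Type u} [SmallCategory C] {J : GrothendieckTopology C} (S : Set (ToposFin.Sh J))

/-- Covered by a member of `S` and embedded in a finite product of members of `S`. -/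
def CovEmb (X : ToposFin.Sh J) : Prop :=
  (∃ (K : ToposFin.Sh J) (p : K ⟶ X), K ∈ S ∧ Epi p) ∧
  ∃ (ι : Type) (_ : Finite ι) (F : ι → ToposFin.Sh J) (e : ∀ i, X ⟶ F i), (∀ i, F i ∈ S) ∧
    ∀ (W : ToposFin.Sh J) (a b : W ⟶ X), (∀ i, a ≫ e i = b ≫ e i) → a = b

variable {S}

lemma exists_covered_equalizer
    (h4 : ∀ K ∈ S, ∀ K' ∈ S, ∀ (a b : K ⟶ K'), ∃ (K'' : ToposFin.Sh J) (g : K'' ⟶ equalizer a b), K'' ∈ S ∧ Epi g)
    {M : ToposFin.Sh J} (hM : M ∈ S) {ι : Type} (s : Finset ι) (F : ι → ToposFin.Sh J) (hF : ∀ i, F i ∈ S)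
    (a b : ∀ i, M ⟶ F i) :
    ∃ (E : ToposFin.Sh J) (e : E ⟶ M), (∀ i ∈ s, e ≫ a i = e ≫ b i) ∧
      (∀ (W : ToposFin.Sh J) (z : W ⟶ M), (∀ i ∈ s, z ≫ a i = z ≫ b i) → ∃ l : W ⟶ E, l ≫ e = z) ∧
      ∃ (M' : ToposFin.Sh J) (q : M' ⟶ E), M' ∈ S ∧ Epi q := by
  classical
  induction s using Finset.induction_on with
  | empty => exact ⟨M, 𝟙 M, by simp, fun W z _ => ⟨z, Category.comp_id z⟩, M, 𝟙 M, hM, inferInstance⟩
  | insert c s _ ih =>
    obtain ⟨E, e, he, hfac, M', q, hM', hq⟩ := ih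
    obtain ⟨M'', g, hM'', hg⟩ := h4 M' hM' (F c) (hF c) (q ≫ e ≫ a c) (q ≫ e ≫ b c)
    let θ : equalizer (q ≫ e ≫ a c) (q ≫ e ≫ b c) ⟶ equalizer (e ≫ a c) (e ≫ b c) :=
      equalizer.lift (equalizer.ι _ _ ≫ q) (by rw [Category.assoc, Category.assoc]; exact equalizer.condition _ _)
    have : Epi θ := by
      let P := pullback q (equalizer.ι (e ≫ a c) (e ≫ b c))
      have hP : Epi (pullback.snd q (equalizer.ι (e ≫ a c) (e ≫ b c))) := by
        refine ⟨fun a b hab => ((EFam.of_epi.{u, 0} q).pullback_snd _) _ a b fun _ => hab⟩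
      let l : P ⟶ equalizer (q ≫ e ≫ a c) (q ≫ e ≫ b c) := equalizer.lift (pullback.fst _ _) (by
        rw [pullback.condition_assoc, pullback.condition_assoc, equalizer.condition])
      exact epi_of_epi_fac (show l ≫ θ = pullback.snd q _ by
        refine equalizer.hom_ext ?_
        simp [l, θ, pullback.condition])
    refine ⟨equalizer (e ≫ a c) (e ≫ b c), equalizer.ι _ _ ≫ e, fun i hi => ?_, fun W z hz => ?_, M'', g ≫ θ, hM'', epi_comp _ _⟩
    · rcases Finset.mem_insert.1 hi with rfl | hi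
      · rw [Category.assoc, Category.assoc]; exact equalizer.condition _ _
      · rw [Category.assoc, Category.assoc, he i hi]
    · obtain ⟨l, hl⟩ := hfac W z fun i hi => hz i (Finset.mem_insert_of_mem hi)
      exact ⟨equalizer.lift l (by rw [← Category.assoc, ← Category.assoc, hl]; exact hz c (Finset.mem_insert_self c s)),
        by rw [equalizer.lift_ι_assoc, hl]⟩

lemma cls_covEmb (hqc : ∀ K ∈ S, ToposFin.IsQC K)
    (h2 : ∀ (F : ToposFin.Sh J) (K : ToposFin.Sh J) (g : F ⟶ K), K ∈ S → Epi g →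
      ∃ (K' : ToposFin.Sh J) (k : K' ⟶ F), K' ∈ S ∧ Epi (k ≫ g))
    (h3 : ∀ K ∈ S, ∀ K' ∈ S, ∃ (K'' : ToposFin.Sh J) (g : K'' ⟶ K ⨯ K'), K'' ∈ S ∧ Epi g)
    (h4 : ∀ K ∈ S, ∀ K' ∈ S, ∀ (a b : K ⟶ K'), ∃ (K'' : ToposFin.Sh J) (g : K'' ⟶ equalizer a b), K'' ∈ S ∧ Epi g) :
    Cls (CovEmb S) (CovEmb S) where
  qc := fun X ⟨⟨K, p, hK, hp⟩, _⟩ => isQC_of_epi p (hqc K hK)
  mem := fun K h => h
  of_iso := fun {X Y} ⟨⟨K, p, hK, hp⟩, ι, hι, F, e, hF, he⟩ i => ⟨⟨K, p ≫ i.hom, hK, epi_comp _ _⟩,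
    ι, hι, F, fun j => i.inv ≫ e j, hF, fun W a b h => (cancel_mono i.inv).1 (he W _ _ fun j => by simpa using h j)⟩
  pb := fun K hK {A B} f g hA hB => by
    obtain ⟨⟨KA, pA, hKA, hpA⟩, ιA, hιA, FA, eA, hFA, heA⟩ := hA
    obtain ⟨⟨KB, pB, hKB, hpB⟩, ιB, hιB, FB, eB, hFB, heB⟩ := hB
    obtain ⟨-, ι, hι, F, e, hF, he⟩ := hK
    obtain ⟨M, m, hM, hm⟩ := h3 KA hKA KB hKB
    let := Fintype.ofFinite ι
    obtain ⟨E, d, hd, hfac, M', q, hM', hq⟩ := exists_covered_equalizer h4 hM Finset.univ F hF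
      (fun i => m ≫ prod.fst ≫ pA ≫ f ≫ e i) (fun i => m ≫ prod.snd ≫ pB ≫ g ≫ e i)
    let θ : E ⟶ pullback f g := pullback.lift (d ≫ m ≫ prod.fst ≫ pA) (d ≫ m ≫ prod.snd ≫ pB)
      (he _ _ _ fun i => by simpa using hd i (Finset.mem_univ i))
    have : Epi θ := by
      let N := pullback (pA ≫ f) (pB ≫ g)
      let r : N ⟶ pullback f g := pullback.map (pA ≫ f) (pB ≫ g) f g pA pB (𝟙 K) (Category.comp_id _) (Category.comp_id _)
      let s : N ⟶ KA ⨯ KB := prod.lift (pullback.fst _ _) (pullback.snd _ _)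
      have hr : Epi r := ⟨fun a b hab => efam_pullback_map₂ (EFam.of_epi.{u, 0} pA) (EFam.of_epi.{u, 0} pB) f g _ a b fun _ => hab⟩
      have hP : Epi (pullback.snd m s) := ⟨fun a b hab => ((EFam.of_epi.{u, 0} m).pullback_snd s) _ a b fun _ => hab⟩
      obtain ⟨l, hl⟩ := hfac (pullback m s) (pullback.fst m s) fun i _ => by
        have hs₁ : s ≫ prod.fst = pullback.fst _ _ := prod.lift_fst _ _
        have hs₂ : s ≫ prod.snd = pullback.snd _ _ := prod.lift_snd _ _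
        rw [pullback.condition_assoc, pullback.condition_assoc, reassoc_of% hs₁, reassoc_of% hs₂]
        have := congrArg (fun z => pullback.snd m s ≫ z ≫ e i) (pullback.condition (f := pA ≫ f) (g := pB ≫ g))
        simpa using this
      have h₁ : l ≫ d ≫ m = pullback.snd m s ≫ s := by rw [reassoc_of% hl, pullback.condition]
      refine @epi_of_epi_fac _ _ _ _ _ l θ (pullback.snd m s ≫ r) (epi_comp _ _) ?_
      apply pullback.hom_ext
      · simp only [θ, r, pullback.map, Category.assoc, pullback.lift_fst, reassoc_of% h₁, s, prod.lift_fst_assoc]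
      · simp only [θ, r, pullback.map, Category.assoc, pullback.lift_snd, reassoc_of% h₁, s, prod.lift_snd_assoc]
    refine ⟨⟨M', q ≫ θ, hM', epi_comp _ _⟩, ιA ⊕ ιB, inferInstance, Sum.elim FA FB,
      fun j => match j with
        | Sum.inl i => pullback.fst f g ≫ eA i
        | Sum.inr i => pullback.snd f g ≫ eB i,
      fun j => by cases j <;> simp [hFA, hFB], fun W a b hab => pullback.hom_ext ?_ ?_⟩
    · exact heA W _ _ fun i => by simpa using hab (Sum.inl i)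
    · exact heB W _ _ fun i => by simpa using hab (Sum.inr i)
  refine := fun K hK {F} g hg => by
    obtain ⟨⟨K₀, p, hK₀, hp⟩, -⟩ := hK
    have hgs : Epi (pullback.snd g p) := ⟨fun a b hab => ((EFam.of_epi.{u, 0} g).pullback_snd p) _ a b fun _ => hab⟩
    obtain ⟨K', k, hK', hk⟩ := h2 _ _ (pullback.snd g p) hK₀ hgs
    refine ⟨K', k ≫ pullback.fst g p, ⟨⟨K', 𝟙 K', hK', inferInstance⟩, PUnit, inferInstance, fun _ => K', fun _ => 𝟙 K',
      fun _ => hK', fun W a b h => by simpa using h ⟨⟩⟩, ?_⟩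
    rw [Category.assoc, pullback.condition, ← Category.assoc]
    exact epi_comp _ _
  split := fun L hL => ⟨1, fun _ => L, fun _ => 𝟙 L,
    ⟨fun Z a b h => by simpa using h 0, fun _ => inferInstance, fun i j h => absurd (Subsingleton.elim i j) h⟩, fun _ => hL⟩

end Groth.Agent.CohColim
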