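import Groth.Agent.CohColim.Inst

/-!
# Cohomology functors preserving filtered colimits
-/

set_option autoImplicit false

universe u

open CategoryTheory CategoryTheory.Limits CategoryTheory.Abelian Opposite

namespace Groth.Agent.CohColim

open ToposFinLib SiteCoh

variable {C : Type u} [SmallCategory C] {J : GrothendieckTopology C} {S T : ToposFin.Sh J → Prop}
  (Λ : Type u) [SmallCategory Λ] [IsFiltered Λ]

theorem Cls.preservesColimitsOfShape_functorH (hc : Cls S T) {K : ToposFin.Sh J} (hK : S K) (hT : IsTerminal K)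
    (q : ℕ) :
    PreservesColimitsOfShape Λ (Sheaf.functorH J q : Sheaf J AddCommGrpCat.{u} ⥤ AddCommGrpCat.{u}) := by
  have := hc.preservesColimitsOfShape (Λ := Λ) hK q
  exact preservesColimitsOfShape_of_natIso (J := Λ)
    ((Abelian.extFunctor.{u} q).mapIso (freeShTerminalIso hT).symm.op ≪≫
      NatIso.ofComponents (fun F => Iso.refl _) (fun f => by ext; rfl))

theorem Cls.preservesColimitsOfShape_cohomologyPresheaf (hc : Cls S T) {V : C} (hV : S (ToposFin.eps J V)) (q : ℕ) :
    PreservesColimitsOfShape Λ ((Sheaf.cohomologyPresheafFunctor.{u} J q).flip.obj (op V) :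
      Sheaf J AddCommGrpCat.{u} ⥤ AddCommGrpCat.{u}) := by
  have := hc.preservesColimitsOfShape (Λ := Λ) hV q
  exact preservesColimitsOfShape_of_natIso (J := Λ)
    ((Abelian.extFunctor.{u} q).mapIso (freeShEpsIso V).symm.op ≪≫
      NatIso.ofComponents (fun F => Iso.refl _) (fun f => by ext; rfl))

theorem preservesColimitsOfShape_Rpush {D : Type u} [SmallCategory D] (K : GrothendieckTopology D)
    (hc : Cls S T) (w : D ⥤ C) [w.IsContinuous K J] (hw : ∀ V : D, S (ToposFin.eps J (w.obj V))) (q : ℕ) :
    PreservesColimitsOfShape Λ (CohSite.Rpush J K w q) := by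
  refine ⟨fun {F} => ?_⟩
  have : PreservesColimit F ((Sheaf.cohomologyPresheafFunctor.{u} J q ⋙
      (Functor.whiskeringLeft _ _ AddCommGrpCat.{u}).obj w.op) ⋙ presheafToSheaf K AddCommGrpCat.{u}) :=
    SiteCoh.preservesColimit_comp_sheafify K F _ fun V =>
      ⟨PUnit.{u + 1}, fun _ => V, fun _ => 𝟙 V, by
        refine K.superset_covering ?_ (K.top_mem V)
        intro Z f _
        exact ⟨V, f, 𝟙 V, Presieve.ofArrows.mk (⟨⟩ : PUnit.{u + 1}), Category.comp_id f⟩, fun _ => by
        have := hc.preservesColimitsOfShape_cohomologyPresheaf Λ (hw V) q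
        exact preservesColimit_of_natIso F (Iso.refl _ :
          (Sheaf.cohomologyPresheafFunctor.{u} J q).flip.obj (op (w.obj V)) ≅ _)⟩
  exact @preservesColimit_of_natIso _ _ _ _ _ _ F _ _ ((Functor.associator _ _ _) ≪≫ (SiteCoh.rpushIso J K w q).symm) this

theorem preservesColimitsOfShape_HZ (hc : Cls S T) {E U : ToposFin.Sh J} (hE : S E) (hU : S U) (f : U ⟶ E) [Mono f] (q : ℕ) :
    PreservesColimitsOfShape Λ ((Abelian.extFunctor.{u} q).obj (op (cokernel ((Nerve.freeSh J).map f)))) := by
  have := mono_freeSh_map f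
  let Sq := ShortComplex.mk ((Nerve.freeSh J).map f) (cokernel.π _) (cokernel.condition _)
  have hS : Sq.ShortExact :=
    { exact := ShortComplex.exact_cokernel _, mono_f := inferInstanceAs (Mono _), epi_g := inferInstanceAs (Epi (cokernel.π _)) }
  exact ⟨fun {D} => preservesColimit_ext
    (extSurj_X₃ hS D (fun p => hc.extSurj_and_extInj hU p D) (fun p => hc.extSurj_and_extInj hE p D) q)
    (extInj_X₃ hS D (fun p => hc.extSurj_and_extInj hU p D) (fun p => hc.extSurj_and_extInj hE p D) q)⟩

end Groth.Agent.CohColim
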