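import Groth.Agent.SiteCoh.TotallyAcyclic
import Mathlib.CategoryTheory.Sites.PreservesSheafification
import Mathlib.CategoryTheory.Sites.Limits
import Mathlib.CategoryTheory.Sites.LocallyBijective
import Mathlib.CategoryTheory.Sites.LeftExact
import Mathlib.CategoryTheory.Limits.FunctorCategory.Basic
import Mathlib.Algebra.Category.Grp.FilteredColimits
import Mathlib.Algebra.Category.Grp.Colimits
import Mathlib.CategoryTheory.Sites.ConcreteSheafification

/-!
# The underlying sheaf of sets commutes with filtered colimits
-/

set_option autoImplicit false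

universe u

open CategoryTheory CategoryTheory.Limits Opposite

namespace Groth.Agent.CohColim

variable {C : Type u} [SmallCategory C] {J : GrothendieckTopology C} {Λ : Type u} [SmallCategory Λ] [IsFiltered Λ]

instance preservesColimit_sheafCompose_forget (D : Λ ⥤ Sheaf J AddCommGrpCat.{u}) :
    PreservesColimit D (sheafCompose J (forget AddCommGrpCat.{u})) := by
  let E := colimit.cocone (D ⋙ sheafToPresheaf J AddCommGrpCat.{u})
  refine preservesColimit_of_preserves_colimit_cocone (Sheaf.isColimitSheafifyCocone E (colimit.isColimit _)) ?_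
  let U := sheafCompose J (forget AddCommGrpCat.{u})
  let E' : Cocone ((D ⋙ U) ⋙ sheafToPresheaf J (Type u)) :=
    ((Functor.whiskeringRight Cᵒᵖ AddCommGrpCat.{u} (Type u)).obj (forget AddCommGrpCat.{u})).mapCocone E
  have : PreservesColimitsOfShape Λ (forget AddCommGrpCat.{u}) :=
    PreservesFilteredColimitsOfSize.preserves_filtered_colimits Λ
  let hE' : IsColimit E' :=
    isColimitOfPreserves ((Functor.whiskeringRight Cᵒᵖ AddCommGrpCat.{u} (Type u)).obj (forget AddCommGrpCat.{u})) (colimit.isColimit _)
  refine (Sheaf.isColimitSheafifyCocone E' hE').ofIsoColimit (Cocone.ext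
    ((fullyFaithfulSheafToPresheaf J (Type u)).preimageIso (sheafifyComposeIso J (forget AddCommGrpCat.{u}) E.pt)) fun j => ?_)
  apply (sheafToPresheaf J (Type u)).map_injective
  rw [Functor.map_comp]
  change ((Sheaf.sheafifyCocone E').ι.app j).hom ≫ (sheafifyComposeIso J (forget AddCommGrpCat.{u}) E.pt).hom =
    Functor.whiskerRight ((Sheaf.sheafifyCocone E).ι.app j).hom _
  refine ((congrArg (· ≫ (sheafifyComposeIso J (forget AddCommGrpCat.{u}) E.pt).hom) (Sheaf.sheafifyCocone_ι_app_val E' j)).trans
    ((Category.assoc _ _ _).trans (congrArg (E'.ι.app j ≫ ·) (sheafComposeIso_hom_fac J (forget AddCommGrpCat.{u}) E.pt)))).trans ?_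
  exact ((congrArg (fun m => Functor.whiskerRight m (forget AddCommGrpCat.{u})) (Sheaf.sheafifyCocone_ι_app_val E j)).trans
    (Functor.whiskerRight_comp _ _ _)).symm

end Groth.Agent.CohColim
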