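import Groth.Agent.ToposFinLib.Filt
import Groth.Agent.SiteCoh.TotallyAcyclic
import Groth.Agent.SiteCoh.FreePullback
import Groth.Agent.CohColim.Forget
import Groth.Agent.CohColim.Ext

/-!
# Filtered colimits of sheaves acyclic on a class of quasi-compact objects
-/

set_option autoImplicit false

universe u

open CategoryTheory CategoryTheory.Limits CategoryTheory.Abelian Opposite
open scoped Simplicial

namespace Groth.Agent.CohColim

open ToposFinLib SiteCoh

variable {C : Type u} [SmallCategory C] {J : GrothendieckTopology C}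

/-- A class `T` of quasi-compact objects made of pieces in `S`, adapted to coverings of members of `S`. -/
structure Cls (S T : ToposFin.Sh J → Prop) : Prop where
  qc : ∀ K, T K → ToposFin.IsQC K
  mem : ∀ K, S K → T K
  of_iso : ∀ {K L : ToposFin.Sh J}, T K → (K ≅ L) → T L
  pb : ∀ K, S K → ∀ {A B : ToposFin.Sh J} (f : A ⟶ K) (g : B ⟶ K), T A → T B → T (pullback f g)
  refine : ∀ K, S K → ∀ {F : ToposFin.Sh J} (g : F ⟶ K), Epi g →
    ∃ (K' : ToposFin.Sh J) (k : K' ⟶ F), T K' ∧ Epi (k ≫ g)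
  split : ∀ L, T L → ∃ (n : ℕ) (F : Fin n → ToposFin.Sh J) (π : ∀ i, F i ⟶ L), DisjCover π ∧ ∀ i, S (F i)

lemma nonempty_isColimit_of_disjCover {n : ℕ} {F : Fin n → ToposFin.Sh J} {L : ToposFin.Sh J} {π : ∀ i, F i ⟶ L}
    (h : DisjCover π) : Nonempty (IsColimit (Cofan.mk L π)) := by
  have key : ∀ (Z : ToposFin.Sh J) (t : ∀ i, F i ⟶ Z), ∃ s : L ⟶ Z, ∀ i, π i ≫ s = t i := fun Z t =>
    exists_desc h.efam t fun i j => by
      by_cases hij : i = j
      · subst hij
        have := h.mono i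
        rw [fst_eq_snd_of_mono_eq]
      · exact (h.disjoint i j hij _ _ _ pullback.condition).some.hom_ext _ _
  choose s hs using key
  exact ⟨Cofan.IsColimit.mk _ (fun c => s c.pt fun i => c.inj i) (fun c i => hs _ _ i)
    fun c m hm => h.efam _ _ _ fun i => (hm i).trans (hs _ _ i).symm⟩

/-- Maps out of a free sheaf on a finite disjoint union. -/
lemma exists_free_desc {n : ℕ} {F : Fin n → ToposFin.Sh J} {L : ToposFin.Sh J} {π : ∀ i, F i ⟶ L} (h : DisjCover π) :
    (∀ (Z : Sheaf J AddCommGrpCat.{u}) (t : ∀ i, (Nerve.freeSh J).obj (F i) ⟶ Z),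
      ∃ s : (Nerve.freeSh J).obj L ⟶ Z, ∀ i, (Nerve.freeSh J).map (π i) ≫ s = t i) ∧
    (∀ (Z : Sheaf J AddCommGrpCat.{u}) (a b : (Nerve.freeSh J).obj L ⟶ Z),
      (∀ i, (Nerve.freeSh J).map (π i) ≫ a = (Nerve.freeSh J).map (π i) ≫ b) → a = b) := by
  obtain ⟨hc⟩ := nonempty_isColimit_of_disjCover h
  have : (Nerve.freeSh J).IsLeftAdjoint := (freeShAdj J).isLeftAdjoint
  let hm := (isColimitMapCoconeCofanMkEquiv (Nerve.freeSh J) F π) (isColimitOfPreserves (Nerve.freeSh J) hc)
  exact ⟨fun Z t => ⟨Cofan.IsColimit.desc hm t, fun i => Cofan.IsColimit.fac hm t i⟩,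
    fun Z a b hab => Cofan.IsColimit.hom_ext hm _ _ hab⟩

/-- `Ext` out of a free sheaf on a finite disjoint union. -/
lemma subsingleton_HK_of_disjCover {n : ℕ} {F : Fin n → ToposFin.Sh J} {L : ToposFin.Sh J} {π : ∀ i, F i ⟶ L}
    (h : DisjCover π) (G : Sheaf J AddCommGrpCat.{u}) (p : ℕ) (hF : ∀ i, Subsingleton (CohCx.HK (F i) G p)) :
    Subsingleton (CohCx.HK L G p) := by
  classical
  obtain ⟨hex, hext⟩ := exists_free_desc h
  choose r hr using fun j => hex ((Nerve.freeSh J).obj (F j)) fun i =>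
    if e : i = j then eqToHom (by rw [e]) else 0
  have hsum : ∑ j, r j ≫ (Nerve.freeSh J).map (π j) = 𝟙 ((Nerve.freeSh J).obj L) := hext _ _ _ fun i => by
    rw [Preadditive.comp_sum, Finset.sum_eq_single i (fun j _ hj => by
      rw [← Category.assoc, hr, dif_neg hj.symm, zero_comp]) (fun h' => absurd (Finset.mem_univ i) h'),
      ← Category.assoc, hr, dif_pos rfl]
    simp
  refine subsingleton_of_forall_eq 0 fun x => ?_
  have hx : x = (Ext.mk₀ (𝟙 ((Nerve.freeSh J).obj L))).comp x (zero_add p) := (Ext.mk₀_id_comp x).symm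
  rw [hx, ← hsum, Ext.mk₀_sum, Ext.sum_comp]
  refine Finset.sum_eq_zero fun j _ => ?_
  rw [← Ext.mk₀_comp_mk₀, Ext.comp_assoc (a₂₃ := p) _ _ _ (add_zero 0) (zero_add p) (zero_add p),
    @Subsingleton.elim _ (hF j) ((Ext.mk₀ ((Nerve.freeSh J).map (π j))).comp x (zero_add p)) 0, Ext.comp_zero]

section Nerve

open AlgebraicTopology

variable {S T : ToposFin.Sh J → Prop}

lemma Cls.nerve_mem (hc : Cls S T) {K' K : ToposFin.Sh J} (f : K' ⟶ K) (hK : S K) (hK' : T K') (n : ℕ) :
    T (widePullback K (fun _ : Fin (n + 1) => K') (fun _ => f)) := by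
  induction n with
  | zero =>
    refine hc.of_iso hK' ⟨WidePullback.lift f (fun _ => 𝟙 K') (fun _ => Category.id_comp f), WidePullback.π _ 0, ?_, ?_⟩
    · exact WidePullback.lift_π _ _ _ _ _
    · apply WidePullback.hom_ext
      · intro j
        rw [Fin.fin_one_eq_zero j]
        simp [WidePullback.lift_π]
      · simp [WidePullback.lift_base, WidePullback.π_arrow]
  | succ n ih =>
    let W := widePullback K (fun _ : Fin (n + 1) => K') (fun _ => f)
    let b : W ⟶ K := WidePullback.base _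
    refine hc.of_iso (hc.pb K hK b f ih hK')
      { hom := WidePullback.lift (pullback.fst b f ≫ b)
          (fun j => Fin.lastCases (motive := fun _ => pullback b f ⟶ K') (pullback.snd b f)
            (fun i => pullback.fst b f ≫ WidePullback.π (fun _ => f) i) j)
          (fun j => by
            induction j using Fin.lastCases with
            | last => simp [pullback.condition]
            | cast i => simp [b, WidePullback.π_arrow])
        inv := pullback.lift
          (WidePullback.lift (WidePullback.base _) (fun i : Fin (n + 1) => WidePullback.π (fun _ => f) i.castSucc)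
            (fun i => WidePullback.π_arrow _ _))
          (WidePullback.π (fun _ => f) (Fin.last (n + 1))) (by simp [b, WidePullback.lift_base, WidePullback.π_arrow])
        hom_inv_id := ?_
        inv_hom_id := ?_ }
    · apply pullback.hom_ext
      · rw [Category.assoc, pullback.lift_fst, Category.id_comp]
        apply WidePullback.hom_ext
        · intro i
          rw [Category.assoc, WidePullback.lift_π, WidePullback.lift_π, Fin.lastCases_castSucc]
        · rw [Category.assoc, WidePullback.lift_base, WidePullback.lift_base]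
      · rw [Category.assoc, pullback.lift_snd, Category.id_comp, WidePullback.lift_π, Fin.lastCases_last]
    · apply WidePullback.hom_ext
      · intro j
        rw [Category.assoc, Category.id_comp, WidePullback.lift_π]
        induction j using Fin.lastCases with
        | last => rw [Fin.lastCases_last, pullback.lift_snd]
        | cast i => rw [Fin.lastCases_castSucc, pullback.lift_fst_assoc, WidePullback.lift_π]
      · rw [Category.assoc, Category.id_comp]
        refine (congrArg (_ ≫ ·) (WidePullback.lift_base _ _ _ _)).trans ?_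
        exact (pullback.lift_fst_assoc _ _ _ _).trans (WidePullback.lift_base _ _ _ _)

/-- Acyclicity on the members of `S`. -/
def SAcyclic (S : ToposFin.Sh J → Prop) (F : Sheaf J AddCommGrpCat.{u}) : Prop :=
  ∀ K, S K → ∀ p : ℕ, Subsingleton (CohCx.HK K F (p + 1))

/-- Čech acyclicity for coverings of members of `S` by members of `T`. -/
def NAcyclic (S T : ToposFin.Sh J → Prop) (F : Sheaf J AddCommGrpCat.{u}) : Prop :=
  ∀ (K' K : ToposFin.Sh J) (f : K' ⟶ K), S K → T K' → Epi f →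
    ∀ q : ℕ, IsZero ((CohCx.cechNerveCx F f).homology (q + 1))

lemma Cls.subsingleton_HK (hc : Cls S T) {F : Sheaf J AddCommGrpCat.{u}} (hF : SAcyclic S F) {L : ToposFin.Sh J}
    (hL : T L) (p : ℕ) : Subsingleton (CohCx.HK L F (p + 1)) := by
  obtain ⟨n, G, π, hπ, hG⟩ := hc.split L hL
  exact subsingleton_HK_of_disjCover hπ F (p + 1) fun i => hF _ (hG i) p

open Nerve in
lemma Cls.nAcyclic_of_sAcyclic (hc : Cls S T) {F : Sheaf J AddCommGrpCat.{u}} (hF : SAcyclic S F) :
    NAcyclic S T F := by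
  intro K' K f hK hK' hf q
  have hsyz : ∀ (q i : ℕ), Subsingleton (Ext (cokernel ((freeCx f).d (q + 1) q)) F (i + 1)) := by
    intro q
    induction q with
    | zero =>
      intro i
      have : Subsingleton (Ext ((freeSh J).obj K) F (i + 1)) := hF K hK i
      exact subsingleton_ext_of_iso (syzygyZeroIso f) (i + 1)
    | succ q ih =>
      intro i
      refine subsingleton_of_forall_eq 0 fun x => ?_
      have := ih (i + 1)
      obtain ⟨y, rfl⟩ := Ext.contravariant_sequence_exact₁ (syzygy_shortExact (freeCx f) q (exact_succ f q)) F x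
        (show 1 + (i + 1) = i + 1 + 1 by omega) (Subsingleton.elim _ _)
      have : Subsingleton (Ext ((freeCx f).X q) F (i + 1)) := hc.subsingleton_HK hF (hc.nerve_mem f hK hK' q) i
      rw [Subsingleton.elim y 0, Ext.comp_zero]
  rw [isZero_cechNerveCx_iff]
  intro x hx
  have := hsyz q 0
  obtain ⟨y, hy⟩ := Ext.contravariant_sequence_exact₁ (syzygy_shortExact (freeCx f) q (exact_succ f q)) F
    (Ext.mk₀ (cokernel.desc ((freeCx f).d (q + 2) (q + 1)) x hx)) (add_zero 1)
    (Subsingleton.elim _ _)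
  obtain ⟨y, rfl⟩ := (Ext.mk₀_bijective _ _).2 y
  rw [Ext.mk₀_comp_mk₀] at hy
  refine ⟨y, ?_⟩
  have h := congrArg (fun m => cokernel.π ((freeCx f).d (q + 2) (q + 1)) ≫ m)
    ((Ext.mk₀_bijective _ _).1 hy)
  simpa using h

open Nerve in
lemma Cls.exists_lift (hc : Cls S T) {Sq : ShortComplex (Sheaf J AddCommGrpCat.{u})} (hS : Sq.ShortExact)
    (hF : NAcyclic S T Sq.X₁) {L : ToposFin.Sh J} (hL : T L) (a : (freeSh J).obj L ⟶ Sq.X₃) :
    ∃ b : (freeSh J).obj L ⟶ Sq.X₂, b ≫ Sq.g = a := by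
  suffices key : ∀ K, S K → ∀ a : (freeSh J).obj K ⟶ Sq.X₃, ∃ b : (freeSh J).obj K ⟶ Sq.X₂, b ≫ Sq.g = a by
    obtain ⟨n, G, π, hπ, hG⟩ := hc.split L hL
    choose b hb using fun i => key _ (hG i) ((freeSh J).map (π i) ≫ a)
    obtain ⟨hex, hext⟩ := exists_free_desc hπ
    obtain ⟨s, hs⟩ := hex _ b
    exact ⟨s, hext _ _ _ fun i => by rw [← Category.assoc, hs, hb]⟩
  intro K hK a
  let adj := freeShAdj J
  let U := sheafCompose J (forget AddCommGrpCat.{u})
  have := hS.epi_g
  have := hS.mono_f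
  have : Epi (U.map Sq.g) :=
    (Sheaf.isLocallySurjective_iff_epi _).1
      ((Presheaf.isLocallySurjective_iff_whisker_forget J Sq.g.hom).1
        ((Sheaf.isLocallySurjective_iff_epi' (A := AddCommGrpCat.{u}) Sq.g).2 inferInstance))
  let a' : K ⟶ U.obj Sq.X₃ := adj.homEquiv _ _ a
  obtain ⟨K', k, hK', hp⟩ := hc.refine K hK (pullback.fst a' (U.map Sq.g)) (epi_pullback_fst a' (U.map Sq.g))
  let p := k ≫ pullback.fst a' (U.map Sq.g)
  let l : (freeSh J).obj K' ⟶ Sq.X₂ := (adj.homEquiv _ _).symm (k ≫ pullback.snd a' (U.map Sq.g))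
  have hl : l ≫ Sq.g = (freeSh J).map p ≫ a := by
    rw [← adj.homEquiv_naturality_right_symm, Category.assoc, ← pullback.condition, ← Category.assoc,
      adj.homEquiv_naturality_left_symm]
    exact congrArg (fun m => (freeSh J).map p ≫ m) ((adj.homEquiv _ _).symm_apply_apply a)
  let b₀ : (freeCx p).X 0 ⟶ Sq.X₂ :=
    (freeSh J).map (WidePullback.π (fun _ : Fin 1 => p) 0) ≫ l
  have hb₀ : b₀ ≫ Sq.g = aug p ≫ a := by
    change ((freeSh J).map (WidePullback.π (fun _ : Fin 1 => p) 0) ≫ l) ≫ Sq.g =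
      (freeSh J).map (WidePullback.base (fun _ : Fin 1 => p)) ≫ a
    rw [← WidePullback.π_arrow (fun _ : Fin 1 => p) 0, (freeSh J).map_comp, Category.assoc, hl,
      Category.assoc]
  obtain ⟨e, he⟩ : ∃ e : (freeCx p).X 1 ⟶ Sq.X₁, e ≫ Sq.f = (freeCx p).d 1 0 ≫ b₀ :=
    ⟨hS.exact.lift ((freeCx p).d 1 0 ≫ b₀) (by rw [Category.assoc, hb₀, ← Category.assoc, d_aug, zero_comp]),
      hS.exact.lift_f _ _⟩
  have he' : (freeCx p).d 2 1 ≫ e = 0 := by
    rw [← cancel_mono Sq.f, Category.assoc, he, HomologicalComplex.d_comp_d_assoc, zero_comp,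
      zero_comp]
  obtain ⟨c, hc'⟩ := (isZero_cechNerveCx_iff p Sq.X₁ 0).1 (hF _ _ p hK hK' hp 0) e he'
  have hd : (freeCx p).d 1 0 ≫ (b₀ - c ≫ Sq.f) = 0 := by
    rw [Preadditive.comp_sub, ← Category.assoc _ c, hc', he, sub_self]
  have hea := epi_aug p
  obtain ⟨b, hb⟩ := CokernelCofork.IsColimit.desc' (exact_zero p).gIsCokernel (b₀ - c ≫ Sq.f) hd
  refine ⟨b, (cancel_epi (aug p)).1 ?_⟩
  rw [show aug p ≫ b ≫ Sq.g = (b₀ - c ≫ Sq.f) ≫ Sq.g from
    (Category.assoc _ _ _).symm.trans (congrArg (fun m => m ≫ Sq.g) hb)]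
  simp [Preadditive.sub_comp, hb₀, Sq.zero]

lemma Cls.nAcyclic_of_injective (hc : Cls S T) (I : Sheaf J AddCommGrpCat.{u}) [Injective I] : NAcyclic S T I :=
  hc.nAcyclic_of_sAcyclic fun K _ p => isTotallyAcyclic_of_injective I K p

open Nerve in
lemma Cls.nAcyclic_X₃ (hc : Cls S T) {Sq : ShortComplex (Sheaf J AddCommGrpCat.{u})} (hS : Sq.ShortExact)
    [Injective Sq.X₂] (hF : NAcyclic S T Sq.X₁) : NAcyclic S T Sq.X₃ := by
  intro K' K f hK hK' hf q
  have := hS.mono_f
  rw [isZero_cechNerveCx_iff]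
  intro x hx
  obtain ⟨y, rfl⟩ : ∃ y : (freeCx f).X (q + 1) ⟶ Sq.X₂, y ≫ Sq.g = x :=
    hc.exists_lift hS hF (hc.nerve_mem f hK hK' (q + 1)) x
  have w : ((freeCx f).d (q + 2) (q + 1) ≫ y) ≫ Sq.g = 0 := by rw [Category.assoc]; exact hx
  let e := hS.exact.lift _ w
  have he : e ≫ Sq.f = (freeCx f).d (q + 2) (q + 1) ≫ y := hS.exact.lift_f _ _
  obtain ⟨c, hc'⟩ := (isZero_cechNerveCx_iff f Sq.X₁ (q + 1)).1 (hF _ _ f hK hK' hf (q + 1)) e (by
    rw [← cancel_mono Sq.f, Category.assoc, he, HomologicalComplex.d_comp_d_assoc, zero_comp,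
      zero_comp])
  obtain ⟨z, hz⟩ := (isZero_cechNerveCx_iff f Sq.X₂ q).1 (hc.nAcyclic_of_injective Sq.X₂ _ _ f hK hK' hf q)
    (y - c ≫ Sq.f) (by rw [Preadditive.comp_sub, ← Category.assoc _ c, hc', he, sub_self])
  refine ⟨z ≫ Sq.g, ?_⟩
  rw [← Category.assoc, hz, Preadditive.sub_comp, Category.assoc c, Sq.zero, comp_zero, sub_zero]

theorem Cls.sAcyclic_of_nAcyclic (hc : Cls S T) {F : Sheaf J AddCommGrpCat.{u}} (hF : NAcyclic S T F) :
    SAcyclic S F := fun K hK p =>
  subsingleton_ext_of_class (NAcyclic S T)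
    (fun X => ∃ L : ToposFin.Sh J, S L ∧ X = (Nerve.freeSh J).obj L)
    (fun G hG => ⟨_, _, _, _, (injEmbed G).zero, inferInstanceAs (Injective (Injective.under G)),
      injEmbed_shortExact G,
      (haveI : Injective (injEmbed G).X₂ := inferInstanceAs (Injective (Injective.under G))
       hc.nAcyclic_X₃ (injEmbed_shortExact G) hG),
      fun _ ⟨_, hL, hX⟩ => hX ▸ hc.exists_lift (injEmbed_shortExact G) hG (hc.mem _ hL)⟩)
    (X := (Nerve.freeSh J).obj K) ⟨K, hK, rfl⟩ hF p

end Nerve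

section Colimit

variable {S T : ToposFin.Sh J → Prop} {Λ : Type u} [SmallCategory Λ] [IsFiltered Λ]

lemma Cls.exists_factor (hc : Cls S T) {L : ToposFin.Sh J} (hL : T L) (D : Λ ⥤ ToposFin.Sh J) (a : L ⟶ colimit D) :
    ∃ (i : Λ) (b : L ⟶ D.obj i), b ≫ colimit.ι D i = a := by
  classical
  suffices key : ∀ K, S K → ∀ a : K ⟶ colimit D, ∃ (i : Λ) (b : K ⟶ D.obj i), b ≫ colimit.ι D i = a by
    obtain ⟨n, G, π, hπ, hG⟩ := hc.split L hL
    choose i b hb using fun l => key _ (hG l) (π l ≫ a)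
    obtain ⟨k, hk⟩ := IsFiltered.sup_objs_exists (Finset.univ.image i)
    let m : ∀ l, i l ⟶ k := fun l => (hk (Finset.mem_image_of_mem i (Finset.mem_univ l))).some
    obtain ⟨hcol⟩ := nonempty_isColimit_of_disjCover hπ
    refine ⟨k, Cofan.IsColimit.desc hcol fun l => b l ≫ D.map (m l), hπ.efam _ _ _ fun l => ?_⟩
    rw [← Category.assoc, show π l ≫ _ = b l ≫ D.map (m l) from Cofan.IsColimit.fac hcol _ l, Category.assoc,
      colimit.w, hb]
  intro K hK a
  have hι : EFam (colimit.ι D) := fun Z a b h => colimit.hom_ext h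
  obtain ⟨s, hs⟩ := exists_finset (hc.qc K (hc.mem K hK)) (hι.pullback_fst a)
  let P := fun q : (s : Set Λ) => pullback a (colimit.ι D q.1)
  let g : ∐ P ⟶ K := Sigma.desc fun q => pullback.fst a (colimit.ι D q.1)
  have : Epi g := (epi_desc_iff _).2 hs
  obtain ⟨K', k, hK', hp⟩ := hc.refine K hK g this
  obtain ⟨i, hi⟩ := IsFiltered.sup_objs_exists s
  let l : ∐ P ⟶ D.obj i := Sigma.desc fun q => pullback.snd a (colimit.ι D q.1) ≫ D.map (hi q.2).some
  have hl : l ≫ colimit.ι D i = g ≫ a := Sigma.hom_ext _ _ fun q => by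
    simp [g, l, pullback.condition, colimit.w]
  obtain ⟨j, f, hf⟩ := exists_eq_stage (D := D) (hc.qc _ (hc.pb K hK (k ≫ g) (k ≫ g) hK' hK'))
    (pullback.fst (k ≫ g) (k ≫ g) ≫ k ≫ l) (pullback.snd (k ≫ g) (k ≫ g) ≫ k ≫ l) (by
      simp only [Category.assoc, hl]
      rw [← Category.assoc k, ← Category.assoc, pullback.condition, Category.assoc])
  have hp' := EFam.of_epi.{u, 0} (k ≫ g)
  obtain ⟨b, hb⟩ := exists_desc hp' (fun _ => k ≫ l ≫ D.map f) (fun _ _ => by simpa using hf)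
  refine ⟨j, b, hp' _ _ _ fun q => ?_⟩
  rw [← Category.assoc, hb q, Category.assoc, Category.assoc, colimit.w, hl]
  simp

lemma Cls.hom_factor (hc : Cls S T) {L : ToposFin.Sh J} (hL : T L) (D : Λ ⥤ Sheaf J AddCommGrpCat.{u})
    (a : (Nerve.freeSh J).obj L ⟶ colimit D) :
    ∃ (i : Λ) (b : (Nerve.freeSh J).obj L ⟶ D.obj i), b ≫ colimit.ι D i = a := by
  let U := sheafCompose J (forget AddCommGrpCat.{u})
  let e := preservesColimitIso U D
  obtain ⟨i, b, hb⟩ := hc.exists_factor hL (D ⋙ U) ((freeShAdj J).homEquiv _ _ a ≫ e.hom)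
  refine ⟨i, ((freeShAdj J).homEquiv _ _).symm b, ?_⟩
  apply ((freeShAdj J).homEquiv _ _).injective
  rw [Adjunction.homEquiv_naturality_right, Equiv.apply_symm_apply]
  rw [← cancel_mono e.hom, Category.assoc, ι_preservesColimitIso_hom, hb]

lemma hom_eventually_zero {L : ToposFin.Sh J} (hL : ToposFin.IsQC L) (D : Λ ⥤ Sheaf J AddCommGrpCat.{u}) (i : Λ)
    (b : (Nerve.freeSh J).obj L ⟶ D.obj i) (hb : b ≫ colimit.ι D i = 0) : ∃ (j : Λ) (f : i ⟶ j), b ≫ D.map f = 0 := by
  let U := sheafCompose J (forget AddCommGrpCat.{u})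
  let e := (freeShAdj J).homEquiv L
  obtain ⟨j, f, hf⟩ := exists_eq_stage (D := D ⋙ U) hL (e (D.obj i) b) (e (D.obj i) 0) (by
    rw [← cancel_mono (preservesColimitIso U D).inv, Category.assoc, Category.assoc, ι_preservesColimitIso_inv,
      ← Adjunction.homEquiv_naturality_right, ← Adjunction.homEquiv_naturality_right, hb, zero_comp])
  refine ⟨j, f, (e (D.obj j)).injective ?_⟩
  rw [Adjunction.homEquiv_naturality_right]
  refine hf.trans ?_
  show e (D.obj i) 0 ≫ U.map (D.map f) = e (D.obj j) 0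
  rw [← Adjunction.homEquiv_naturality_right, zero_comp]

open Nerve in
lemma Cls.nAcyclic_colimit (hc : Cls S T) (D : Λ ⥤ Sheaf J AddCommGrpCat.{u}) (hD : ∀ i, NAcyclic S T (D.obj i)) :
    NAcyclic S T (colimit D) := by
  intro K' K f hK hK' hf q
  rw [isZero_cechNerveCx_iff]
  intro x hx
  obtain ⟨i, b, rfl⟩ := hc.hom_factor (hc.nerve_mem f hK hK' (q + 1)) D x
  obtain ⟨j, g, hg⟩ := hom_eventually_zero (hc.qc _ (hc.nerve_mem f hK hK' (q + 2))) D i
    ((freeCx f).d (q + 2) (q + 1) ≫ b) ((Category.assoc _ _ _).trans hx)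
  obtain ⟨y, hy⟩ := (isZero_cechNerveCx_iff f (D.obj j) q).1 (hD j _ _ f hK hK' hf q) (b ≫ D.map g)
    ((Category.assoc _ _ _).symm.trans hg)
  refine ⟨y ≫ colimit.ι D j, ?_⟩
  rw [← Category.assoc, hy, Category.assoc, colimit.w]
  rfl

theorem Cls.sAcyclic_colimit (hc : Cls S T) (D : Λ ⥤ Sheaf J AddCommGrpCat.{u}) (hD : ∀ i, SAcyclic S (D.obj i)) :
    SAcyclic S (colimit D) :=
  hc.sAcyclic_of_nAcyclic (hc.nAcyclic_colimit D fun i => hc.nAcyclic_of_sAcyclic (hD i))

theorem Cls.extSurj_and_extInj (hc : Cls S T) {K : ToposFin.Sh J} (hK : S K) (q : ℕ)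
    (D : Λ ⥤ Sheaf J AddCommGrpCat.{u}) :
    ExtSurj ((Nerve.freeSh J).obj K) q D ∧ ExtInj ((Nerve.freeSh J).obj K) q D :=
  CohColim.extSurj_and_extInj
    (fun D => extSurj_and_extInj_zero D (hc.hom_factor (hc.mem K hK) D)
      (hom_eventually_zero (hc.qc K (hc.mem K hK)) D))
    (fun D hD p => hc.sAcyclic_colimit D (fun i L _ p => @Ext.subsingleton_of_injective _ _ _ _ _ _ (hD i) p) K hK p)
    q D

theorem Cls.preservesColimitsOfShape (hc : Cls S T) {K : ToposFin.Sh J} (hK : S K) (q : ℕ) :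
    PreservesColimitsOfShape Λ ((Abelian.extFunctor.{u} q).obj (op ((Nerve.freeSh J).obj K))) :=
  ⟨fun {D} => preservesColimit_ext (hc.extSurj_and_extInj hK q D).1 (hc.extSurj_and_extInj hK q D).2⟩

end Colimit

end Groth.Agent.CohColim
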