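import Groth.Agent.CohColim.Ext

/-!
# Commutation of Ext with filtered colimits along short exact sequences in the first variable
-/

set_option autoImplicit false

universe w v u

open CategoryTheory CategoryTheory.Limits CategoryTheory.Abelian Opposite

namespace Groth.Agent.CohColim

variable {A : Type u} [Category.{v} A] [Abelian A] [HasExt.{w} A] {Λ : Type w} [SmallCategory Λ]
  [IsFiltered Λ] [HasColimitsOfShape Λ A]

variable {S : ShortComplex A} (hS : S.ShortExact) (D : Λ ⥤ A)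

include hS

omit hS [IsFiltered Λ] [HasColimitsOfShape Λ A] in
lemma comp_sub {X Y Z : A} {p : ℕ} (f : X ⟶ Y) (a b : Ext Y Z p) :
    (Ext.mk₀ f).comp (a - b) (zero_add p) = (Ext.mk₀ f).comp a (zero_add p) - (Ext.mk₀ f).comp b (zero_add p) :=
  map_sub ((Ext.mk₀ f).precomp Z (zero_add p)) a b

theorem extSurj_X₃ (h₁ : ∀ p, ExtSurj S.X₁ p D ∧ ExtInj S.X₁ p D) (h₂ : ∀ p, ExtSurj S.X₂ p D ∧ ExtInj S.X₂ p D)
    (p : ℕ) : ExtSurj S.X₃ p D := by
  intro x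
  obtain ⟨i, z, hz⟩ := (h₂ p).1 ((Ext.mk₀ S.g).comp x (zero_add p))
  have h0 : ((Ext.mk₀ S.f).comp z (zero_add p)).comp (Ext.mk₀ (colimit.ι D i)) (add_zero p) = 0 := by
    rw [Ext.comp_assoc_of_third_deg_zero, hz, Ext.mk₀_comp_mk₀_assoc, S.zero, Ext.mk₀_zero, Ext.zero_comp]
  obtain ⟨j, a, ha⟩ := (h₁ p).2 i _ h0
  rw [Ext.comp_assoc_of_third_deg_zero] at ha
  obtain ⟨w, hw⟩ := Ext.contravariant_sequence_exact₂ hS _ _ ha
  have hx : (Ext.mk₀ S.g).comp (x - w.comp (Ext.mk₀ (colimit.ι D j)) (add_zero p)) (zero_add p) = 0 := by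
    rw [comp_sub, ← Ext.comp_assoc_of_third_deg_zero, hw, comp_map_ι, hz, sub_self]
  cases p with
  | zero =>
    obtain ⟨m, hm⟩ := (Ext.mk₀_bijective _ _).2 (x - w.comp (Ext.mk₀ (colimit.ι D j)) (add_zero 0))
    rw [← hm, Ext.mk₀_comp_mk₀, ← Ext.mk₀_zero] at hx
    have := hS.epi_g
    have hm0 : m = 0 := (cancel_epi S.g).1 (((Ext.mk₀_bijective _ _).1 hx).trans comp_zero.symm)
    rw [hm0, Ext.mk₀_zero] at hm
    exact ⟨j, w, (sub_eq_zero.1 hm.symm).symm⟩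
  | succ q =>
    obtain ⟨y, hy⟩ := Ext.contravariant_sequence_exact₃ hS _ _ hx (show 1 + q = q + 1 by omega)
    obtain ⟨k, yk, rfl⟩ := (h₁ q).1 y
    let l := IsFiltered.max j k
    refine ⟨l, w.comp (Ext.mk₀ (D.map (IsFiltered.leftToMax j k))) (add_zero _) +
      (hS.extClass.comp yk (show 1 + q = q + 1 by omega)).comp (Ext.mk₀ (D.map (IsFiltered.rightToMax j k))) (add_zero _), ?_⟩
    rw [Ext.add_comp, comp_map_ι, comp_map_ι, Ext.comp_assoc_of_third_deg_zero, hy, add_sub_cancel]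

theorem extInj_X₃ (h₁ : ∀ p, ExtSurj S.X₁ p D ∧ ExtInj S.X₁ p D) (h₂ : ∀ p, ExtSurj S.X₂ p D ∧ ExtInj S.X₂ p D)
    (p : ℕ) : ExtInj S.X₃ p D := by
  intro i w hw
  have h0 : ((Ext.mk₀ S.g).comp w (zero_add p)).comp (Ext.mk₀ (colimit.ι D i)) (add_zero p) = 0 := by
    rw [Ext.comp_assoc_of_third_deg_zero, hw, Ext.comp_zero]
  obtain ⟨j, a, ha⟩ := (h₂ p).2 i _ h0
  rw [Ext.comp_assoc_of_third_deg_zero] at ha
  cases p with
  | zero =>
    obtain ⟨m, hm⟩ := (Ext.mk₀_bijective _ _).2 (w.comp (Ext.mk₀ (D.map a)) (add_zero 0))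
    rw [← hm, Ext.mk₀_comp_mk₀, ← Ext.mk₀_zero] at ha
    have := hS.epi_g
    have hm0 : m = 0 := (cancel_epi S.g).1 (((Ext.mk₀_bijective _ _).1 ha).trans comp_zero.symm)
    exact ⟨j, a, by rw [← hm, hm0, Ext.mk₀_zero]⟩
  | succ q =>
    obtain ⟨y, hy⟩ := Ext.contravariant_sequence_exact₃ hS _ _ ha (show 1 + q = q + 1 by omega)
    have hd : hS.extClass.comp (y.comp (Ext.mk₀ (colimit.ι D j)) (add_zero q)) (show 1 + q = q + 1 by omega) = 0 := by
      rw [← Ext.comp_assoc_of_third_deg_zero (a₁₂ := q + 1) _ _ _ (by omega), hy, comp_map_ι, hw]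
    obtain ⟨z, hz⟩ := Ext.contravariant_sequence_exact₁ hS _ _ _ hd
    obtain ⟨k, zk, rfl⟩ := (h₂ q).1 z
    let l := IsFiltered.max j k
    have hd' : (y.comp (Ext.mk₀ (D.map (IsFiltered.leftToMax j k))) (add_zero q) -
        ((Ext.mk₀ S.f).comp zk (zero_add q)).comp (Ext.mk₀ (D.map (IsFiltered.rightToMax j k))) (add_zero q)).comp
          (Ext.mk₀ (colimit.ι D l)) (add_zero q) = 0 := by
      rw [sub_comp, comp_map_ι, comp_map_ι, Ext.comp_assoc_of_third_deg_zero, hz, sub_self]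
    obtain ⟨n, b, hb⟩ := (h₁ q).2 l _ hd'
    rw [sub_comp, sub_eq_zero, comp_map_map, comp_map_map, Ext.comp_assoc_of_third_deg_zero] at hb
    refine ⟨n, a ≫ IsFiltered.leftToMax j k ≫ b, ?_⟩
    rw [← comp_map_map, ← hy, Ext.comp_assoc_of_third_deg_zero, hb, ← Ext.comp_assoc (a₁₂ := 1) _ _ _ (add_zero 1)
      (zero_add q) (by omega), hS.extClass_comp, Ext.zero_comp]

end Groth.Agent.CohColim
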