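import Groth.Agent.CohColim.Class
import Groth.Agent.CohColim.FirstVar
import Groth.Agent.ToposFinLib.Presentation
import Groth.Agent.SiteCoh.RpushColim
import Groth.Prelude.Def_ToposFin2

/-!
# Classes of quasi-compact objects adapted to cohomology, and free sheaves
-/

set_option autoImplicit false

universe u

open CategoryTheory CategoryTheory.Limits CategoryTheory.Abelian Opposite

namespace Groth.Agent.CohColim

open ToposFinLib SiteCoh

variable {C : Type u} [SmallCategory C] {J : GrothendieckTopology C}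

/-- Finite disjoint unions of members of `S`. -/
def Glued (S : ToposFin.Sh J → Prop) (L : ToposFin.Sh J) : Prop :=
  ∃ (n : ℕ) (F : Fin n → ToposFin.Sh J) (π : ∀ i, F i ⟶ L), DisjCover π ∧ ∀ i, S (F i)

theorem cls_of_gen {S : ToposFin.Sh J → Prop} (hqc : ∀ K, S K → ToposFin.IsQC K) (hgen : Gen S)
    (hpb : ∀ ⦃K A B : ToposFin.Sh J⦄ (f : A ⟶ K) (g : B ⟶ K), S K → S A → S B →
      ∃ (P : ToposFin.Sh J) (p : P ⟶ A) (q : P ⟶ B), S P ∧ IsPullback p q f g) :
    Cls S (Glued S) where
  qc := fun L ⟨n, F, π, hπ, hF⟩ => isQC_of_efam hπ.efam fun i => hqc _ (hF i)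
  mem := fun K hK => ⟨1, fun _ => K, fun _ => 𝟙 K,
    ⟨fun Z a b h => by simpa using h 0, fun _ => inferInstance, fun i j h => absurd (Subsingleton.elim i j) h⟩, fun _ => hK⟩
  of_iso := fun {K L} ⟨n, F, π, hπ, hF⟩ e => ⟨n, F, fun i => π i ≫ e.hom,
    ⟨fun Z a b h => (cancel_epi e.hom).1 (hπ.efam _ _ _ fun i => by simpa using h i),
      fun i => have := hπ.mono i; mono_comp _ _,
      fun i j hij W a b hab => hπ.disjoint i j hij W a b ((cancel_mono e.hom).1 (by simpa using hab))⟩, hF⟩
  pb := fun K hK {A B} f g ⟨n, F, π, hπ, hF⟩ ⟨m, G, ρ, hρ, hG⟩ => by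
    choose P p q hP hpq using fun z : Fin (n * m) => hpb (π (finProdFinEquiv.symm z).1 ≫ f)
      (ρ (finProdFinEquiv.symm z).2 ≫ g) hK (hF _) (hG _)
    let μ := fun z : Fin n × Fin m => pullback.map (π z.1 ≫ f) (ρ z.2 ≫ g) f g (π z.1) (ρ z.2) (𝟙 K)
      (Category.comp_id _) (Category.comp_id _)
    have hμ : DisjCover μ := by
      refine ⟨efam_pullback_map₂ hπ.efam hρ.efam f g, fun z => ?_, fun z r hzr W a b hab => ?_⟩
      · have := hπ.mono z.1
        have := hρ.mono z.2
        exact ⟨fun {W} a b hab => pullback.hom_ext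
          ((cancel_mono (π z.1)).1 (by simpa [μ, pullback.map, pullback.lift_fst] using congrArg (· ≫ pullback.fst f g) hab))
          ((cancel_mono (ρ z.2)).1 (by simpa [μ, pullback.map, pullback.lift_snd] using congrArg (· ≫ pullback.snd f g) hab))⟩
      · have h₁ := congrArg (· ≫ pullback.fst f g) hab
        have h₂ := congrArg (· ≫ pullback.snd f g) hab
        simp only [μ, Category.assoc, pullback.map, pullback.lift_fst, pullback.lift_snd] at h₁ h₂
        by_cases h : z.1 = r.1
        · exact hρ.disjoint z.2 r.2 (fun h' => hzr (Prod.ext h h')) W (a ≫ pullback.snd _ _) (b ≫ pullback.snd _ _)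
            (by simpa only [Category.assoc] using h₂)
        · exact hπ.disjoint z.1 r.1 h W (a ≫ pullback.fst _ _) (b ≫ pullback.fst _ _)
            (by simpa only [Category.assoc] using h₁)
    refine ⟨n * m, P, fun z => (hpq z).isoPullback.hom ≫ μ (finProdFinEquiv.symm z), ⟨?_, ?_, ?_⟩, hP⟩
    · refine fun Z a b h => hμ.efam _ _ _ fun z => ?_
      obtain ⟨z, rfl⟩ := finProdFinEquiv.symm.surjective z
      exact (cancel_epi (hpq z).isoPullback.hom).1 (by simpa using h z)
    · intro z
      have := hμ.mono (finProdFinEquiv.symm z)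
      exact mono_comp _ _
    · intro z r hzr W a b hab
      exact hμ.disjoint _ _ (fun h => hzr (finProdFinEquiv.symm.injective h)) W (a ≫ (hpq z).isoPullback.hom)
        (b ≫ (hpq r).isoPullback.hom) (by simpa using hab)
  refine := fun K hK {F} g hg => by
    obtain ⟨n, W, w, hw, hW⟩ := exists_fin_cover hgen (hqc K hK) (𝟙 K) (EFam.of_epi.{u, 0} g)
    choose hWS j l hl using hW
    refine ⟨∐ W, Sigma.desc l, ⟨n, W, Sigma.ι W,
      DisjCover.of_isColimit (Cofan.mk _ (Sigma.ι W)) (coproductIsCoproduct W), hWS⟩, ?_⟩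
    have : Sigma.desc l ≫ g = Sigma.desc w := Sigma.hom_ext _ _ fun k => by simp [hl]
    rw [this]
    exact (epi_desc_iff w).2 hw
  split := fun L h => h

lemma coherent_pullback_of_algebraic (hE : ToposFin.IsAlgebraic J) ⦃K A B : ToposFin.Sh J⦄ (f : A ⟶ K) (g : B ⟶ K)
    (hK : ToposFin.IsCoherent K) (hA : ToposFin.IsCoherent A) (hB : ToposFin.IsCoherent B) :
    ∃ (P : ToposFin.Sh J) (p : P ⟶ A) (q : P ⟶ B), ToposFin.IsCoherent P ∧ IsPullback p q f g :=
  ⟨pullback f g, _, _, ⟨hK.2 _ _ _ _ hA.1 hB.1,
    isQS_of_qs (MorphismProperty.pullback_snd (P := qs) f g (qs_of_isQS_of_algebraic hE f hA.2)) hB.2⟩,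
    IsPullback.of_hasPullback f g⟩

theorem cls_coherent (hE : ToposFin.IsAlgebraic J) :
    Cls (J := J) ToposFin.IsCoherent (Glued ToposFin.IsCoherent) := by
  refine cls_of_gen (fun K h => h.1) ?_ (coherent_pullback_of_algebraic hE)
  obtain ⟨S, hqc, hgen, hpb, -⟩ := hE
  exact Gen.mono (P := (· ∈ S)) hgen fun K hK => isCoherent_of_mem hqc hgen hpb hK

/-- The free sheaf on a terminal sheaf of sets is the constant sheaf. -/
noncomputable def freeShTerminalIso {X : ToposFin.Sh J} (hX : IsTerminal X) :
    (Nerve.freeSh J).obj X ≅ (constantSheaf J AddCommGrpCat.{u}).obj (AddCommGrpCat.of (ULift.{u} ℤ)) :=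
  haveI hu : ∀ V, Unique (X.obj.obj V) := fun V => Types.isTerminalEquivUnique _
    (IsTerminal.isTerminalObj (sheafToPresheaf J (Type u) ⋙ (evaluation Cᵒᵖ (Type u)).obj V) X hX)
  (presheafToSheaf J AddCommGrpCat.{u}).mapIso (NatIso.ofComponents
    (fun V => AddEquiv.toAddCommGrpIso
      (AddMonoidHom.toAddEquiv
        (FreeAbelianGroup.lift fun _ : X.obj.obj V => (ULift.up 1 : ULift.{u} ℤ))
        (uliftZMultiplesHom _ (FreeAbelianGroup.of ((hu V).default)))
        (by
          refine FreeAbelianGroup.lift_ext _ _ fun f => ?_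
          obtain rfl : f = (hu V).default := (hu V).uniq f
          exact (congrArg (uliftZMultiplesHom _ (FreeAbelianGroup.of (hu V).default))
            (FreeAbelianGroup.lift_apply_of _ _)).trans (one_zsmul _))
        (by
          apply (uliftZMultiplesHom _).symm.injective
          change FreeAbelianGroup.lift (fun _ : X.obj.obj V => (ULift.up 1 : ULift.{u} ℤ))
            (uliftZMultiplesHom _ (FreeAbelianGroup.of ((hu V).default)) (ULift.up (1 : ℤ))) =
              ULift.up (1 : ℤ)
          exact (congrArg _ (one_zsmul _)).trans (FreeAbelianGroup.lift_apply_of _ _))))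
    (fun {V W} g => by
      apply AddCommGrpCat.hom_ext
      refine FreeAbelianGroup.lift_ext _ _ fun f => ?_
      refine (congrArg (FreeAbelianGroup.lift _) (FreeAbelianGroup.map_of_apply _)).trans ?_
      exact (FreeAbelianGroup.lift_apply_of _ _).trans (FreeAbelianGroup.lift_apply_of _ _).symm))

/-- The free sheaf on an object of the site. -/
noncomputable def freeShEpsIso (V : C) : (Nerve.freeSh J).obj (ToposFin.eps J V) ≅ CohCx.freeSheaf J V :=
  (presheafToSheafCompComposeAndSheafifyIso J AddCommGrpCat.free.{u}).app (yoneda.obj V)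

/-- The free sheaf functor preserves monomorphisms. -/
lemma mono_freeSh_map {X Y : ToposFin.Sh J} (f : X ⟶ Y) [Mono f] : Mono ((Nerve.freeSh J).map f) := by
  have hf : Mono ((sheafToPresheaf J (Type u)).map f) := inferInstance
  have : Mono (Functor.whiskerRight f.hom AddCommGrpCat.free.{u}) := by
    refine @NatTrans.mono_of_mono_app _ _ _ _ _ _ _ fun V => (AddCommGrpCat.mono_iff_injective _).2 ?_
    have h : Function.Injective (f.hom.app V) := (mono_iff_injective _).1 ((NatTrans.mono_iff_mono_app f.hom).1 hf V)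
    show Function.Injective (FreeAbelianGroup.map (f.hom.app V))
    rcases isEmpty_or_nonempty (X.obj.obj V) with he | he
    · exact fun a b _ => Subsingleton.elim a b
    · refine Function.LeftInverse.injective (g := FreeAbelianGroup.map (Function.invFun (f.hom.app V))) fun a => ?_
      rw [← FreeAbelianGroup.map_comp_apply, Function.invFun_comp h, FreeAbelianGroup.map_id_apply]
  exact inferInstanceAs (Mono ((presheafToSheaf J AddCommGrpCat.{u}).map _))

end Groth.Agent.CohColim
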